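import Groth.Agent.TorRise7.Scheme
import Groth.Agent.PerfGen7.RelFlatZero

/-!
# Tor amplitude over the base against tor amplitude over a smooth intermediate scheme
-/

set_option linter.style.haveILetI false
set_option backward.isDefEq.respectTransparency false

universe u

open CategoryTheory CategoryTheory.Limits AlgebraicGeometry TopologicalSpace

attribute [local instance] HasDerivedCategory.standard

namespace Groth.Agent.TorSmoothRel

open Groth.Agent.KFlatLib Groth.Agent.H9Misc Groth.Agent.PerfGen7 Groth.Agent.PerfGen7.RelTor Groth.Agent.TorRise7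

variable {X W Y : Scheme.{u}}

/-- On a standard smooth chart of the base change. -/
theorem torAmplitudeAt_of_chart (φ : X ⟶ W) (g : W ⟶ Y) {U : Y.Opens} (hU : IsAffineOpen U) {V : W.Opens}
    (hV : IsAffineOpen V) (e : V ≤ g ⁻¹ᵁ U) {n : ℕ}
    (hn : (g.appLE U V e).hom.IsStandardSmoothOfRelativeDimension n)
    (G : CochainComplex X.Modules ℤ) {a b : ℤ} {x : X} (hz : φ x ∈ V)
    (h : DerSch.HasTorAmplitudeAt (φ ≫ g) a b G x) : DerSch.HasTorAmplitudeAt φ (a - n) b G x := by
  have hgz : g (φ x) ∈ U := e hz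
  letI : Algebra Γ(Y, U) Γ(W, V) := (g.appLE U V e).hom.toAlgebra
  haveI : Algebra.IsStandardSmoothOfRelativeDimension n Γ(Y, U) Γ(W, V) := hn
  letI : Algebra Γ(W, V) (W.presheaf.stalk (φ x)) := TopCat.Presheaf.algebra_section_stalk W.presheaf ⟨φ x, hz⟩
  haveI := hV.isLocalization_stalk ⟨φ x, hz⟩
  letI : Algebra Γ(Y, U) (Y.presheaf.stalk (g (φ x))) :=
    TopCat.Presheaf.algebra_section_stalk Y.presheaf ⟨g (φ x), hgz⟩
  haveI := hU.isLocalization_stalk ⟨g (φ x), hgz⟩
  have hc : Y.presheaf.germ U (g (φ x)) hgz ≫ g.stalkMap (φ x) = g.appLE U V e ≫ W.presheaf.germ V (φ x) hz := by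
    rw [Scheme.Hom.germ_stalkMap, Scheme.Hom.appLE, Category.assoc, TopCat.Presheaf.germ_res]
  have hcomp : (φ.stalkMap x).hom.comp (g.stalkMap (φ x)).hom = ((φ ≫ g).stalkMap x).hom := by
    rw [Scheme.Hom.stalkMap_comp]; rfl
  let i := stalkCxOverIso (φ ≫ g) x G ≪≫ TorAmpBC.resCompIso hcomp _ ≪≫
    ((ModuleCat.restrictScalars (g.stalkMap (φ x)).hom).mapHomologicalComplex (ComplexShape.up ℤ)).mapIso
      (stalkCxOverIso φ x G).symm
  exact of_standardSmooth_localization (A := Γ(Y, U)) (B := Γ(W, V)) n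
    (hV.primeIdealOf ⟨φ x, hz⟩).asIdeal.primeCompl
    (algebraMap Γ(Y, U) (Y.presheaf.stalk (g (φ x))))
    (RingHom.flat_algebraMap_iff.2 (IsLocalization.flat _ (hU.primeIdealOf ⟨g (φ x), hgz⟩).asIdeal.primeCompl))
    (g.stalkMap (φ x)).hom (congrArg CommRingCat.Hom.hom hc) _
    (torAmp_of_iso (DerivedCategory.Q.mapIso i) h)

/-- The structure sheaf of a flat morphism has tor amplitude `[0, 0]`. -/
theorem torAmplitudeAt_unit_of_flat (f : X ⟶ Y) [Flat f] (x : X) :
    DerSch.HasTorAmplitudeAt f 0 0 (DerSch.unitCx X) x := by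
  refine (torAmplitudeAt_single_iff f (Coh.structureModule X) x).2 ?_
  obtain ⟨e⟩ := H1GeomRk.nonempty_stalkUnitEquiv (X := X) x
  letI := FlatMod.moduleStalkOver f (Coh.structureModule X) x
  letI := (f.stalkMap x).hom.toAlgebra
  haveI : IsScalarTower (Y.presheaf.stalk (f x)) (X.presheaf.stalk x)
      ((Coh.structureModule X).presheaf.stalk x) := IsScalarTower.of_algebraMap_smul fun _ _ => rfl
  haveI : Module.Flat (Y.presheaf.stalk (f x)) (X.presheaf.stalk x) := Flat.stalkMap f x
  exact Module.Flat.of_linearEquiv (e.restrictScalars (Y.presheaf.stalk (f x))).symm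

end Groth.Agent.TorSmoothRel
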